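import Groth.Agent.KrullAki.Basic
import Mathlib.RingTheory.Valuation.LocalSubring
import Mathlib.RingTheory.DiscreteValuationRing.TFAE
import Mathlib.RingTheory.DedekindDomain.Dvr
import Mathlib.RingTheory.IntegralClosure.IsIntegralClosure.Basic
import Mathlib.RingTheory.IntegralClosure.IntegrallyClosed
import Mathlib.RingTheory.Localization.AsSubring
import Mathlib.RingTheory.Jacobson.Ideal
import Mathlib.RingTheory.KrullDimension.Field
import Mathlib.RingTheory.Finiteness.Subalgebra

/-!
# Valuation rings over a semi-local one-dimensional Noetherian subring of a field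
-/

namespace Groth.Agent.KrullAki

variable {K : Type*} [Field K]

/-- A subring containing `A`, as an `A`-subalgebra. -/
def toSubalgebra {A C : Subring K} (h : A ≤ C) : Subalgebra A K :=
  { C with algebraMap_mem' := fun a => h a.2 }

theorem isFractionRing_of_le {A C : Subring K} [IsFractionRing A K] (h : A ≤ C) :
    IsFractionRing C K := by
  refine IsFractionRing.of_field _ _ fun z => ?_
  obtain ⟨p, q, -, rfl⟩ := IsFractionRing.div_surjective (A := A) z
  exact ⟨⟨p, h p.2⟩, ⟨q, h q.2⟩, rfl⟩

theorem krullDimLE_one_of_dim_eq_one {R : Type*} [CommRing R] (h : ringKrullDim R = 1) :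
    Ring.KrullDimLE 1 R :=
  Ring.krullDimLE_iff.2 h.le

theorem isField_iff_eq_top (C : Subring K) [IsFractionRing C K] : IsField C ↔ C = ⊤ := by
  constructor
  · intro h
    refine eq_top_iff.2 fun z _ => ?_
    obtain ⟨p, q, hq, rfl⟩ := IsFractionRing.div_surjective (A := C) z
    obtain ⟨r, hr⟩ := h.mul_inv_cancel (nonZeroDivisors.ne_zero hq)
    have hr' : (q : K) * (r : K) = 1 := congrArg Subtype.val hr
    show (p : K) / (q : K) ∈ C
    rw [div_eq_mul_inv, inv_eq_of_mul_eq_one_right hr']
    exact C.mul_mem p.2 r.2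
  · rintro rfl
    exact MulEquiv.isField (Field.toIsField K) Subring.topEquiv.toMulEquiv

theorem ne_top_of_dim_eq_one (C : Subring K) [IsFractionRing C K] (h : ringKrullDim C = 1) :
    C ≠ ⊤ := fun hC => by
  rw [ringKrullDim_eq_zero_of_isField ((isField_iff_eq_top C).2 hC)] at h
  exact zero_ne_one h

section Over

variable (A : Subring K) [IsFractionRing A K] [IsNoetherianRing A] [Ring.KrullDimLE 1 A]

theorem isNoetherianRing_of_le {C : Subring K} (h : A ≤ C) : IsNoetherianRing C :=
  isNoetherianRing_subalgebra (K := K) (toSubalgebra h)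

theorem krullDimLE_one_of_le {C : Subring K} (h : A ≤ C) : Ring.KrullDimLE 1 C :=
  krullDimLE_one_subalgebra (K := K) (toSubalgebra h)

theorem finite_maximalSpectrum_of_le [Finite (MaximalSpectrum A)] {C : Subring K} (h : A ≤ C) :
    Finite (MaximalSpectrum C) :=
  finite_maximalSpectrum_subalgebra (K := K) (toSubalgebra h)

theorem ringKrullDim_eq_one_of_le {C : Subring K} (h : A ≤ C) (hC : C ≠ ⊤) :
    ringKrullDim C = 1 := by
  have hle := krullDimLE_one_of_le A h
  have := isFractionRing_of_le h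
  refine le_antisymm (Ring.krullDimLE_iff.1 hle) ?_
  by_contra hlt
  have h0 : Ring.KrullDimLE 0 C := Ring.krullDimLE_iff.2 (by
    rw [not_le] at hlt
    exact Order.le_of_lt_succ (lt_of_lt_of_eq hlt (by rfl)))
  exact hC ((isField_iff_eq_top C).1 Ring.KrullDimLE.isField_of_isDomain)

/-- A proper valuation ring over `A` is a discrete valuation ring. -/
theorem isDiscreteValuationRing_of_le {V : ValuationSubring K} (h : A ≤ V.toSubring) (hV : V ≠ ⊤) :
    IsDiscreteValuationRing V := by
  have : IsNoetherianRing V := isNoetherianRing_of_le A h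
  have hf : ¬ IsField V := fun hF => hV <| by
    have := isFractionRing_of_le h
    have := (isField_iff_eq_top V.toSubring).1 hF
    exact ValuationSubring.toSubring_injective (this.trans rfl)
  have : IsPrincipalIdealRing V := IsPrincipalIdealRing.of_isNoetherianRing_of_isBezout
  exact { not_a_field' := IsLocalRing.isField_iff_maximalIdeal_eq.not.1 hf }

end Over

theorem mem_of_forall_le_isIntegral {A : Subring K} {V : ValuationSubring K} (h : A ≤ V.toSubring)
    {x : K} (hx : IsIntegral A x) : x ∈ V := by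
  letI : Algebra A V := (Subring.inclusion h).toAlgebra
  have : IsScalarTower A V K := IsScalarTower.of_algebraMap_eq' rfl
  obtain ⟨y, hy⟩ := IsIntegrallyClosed.isIntegral_iff.1 (hx.tower_top (A := V))
  exact hy ▸ y.2

theorem isIntegral_of_forall_mem {A : Subring K} {x : K}
    (hx : ∀ V : ValuationSubring K, A ≤ V.toSubring → x ∈ V) : IsIntegral A x := by
  have h : x ∈ (⨅ V : {V : ValuationSubring K // (A : Set K) ⊆ V.toSubring}, V.1.toSubring) :=
    Subring.mem_iInf.2 fun V => hx V.1 V.2
  rw [iInf_valuationSubring_superset, Subring.closure_eq] at h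
  exact h

/-- The contraction of the maximal ideal of a valuation ring over `C`. -/
def comapIdeal {C : Subring K} {V : ValuationSubring K} (h : C ≤ V.toSubring) : Ideal C :=
  (IsLocalRing.maximalIdeal V).comap (Subring.inclusion h : C →+* V.toSubring)

theorem mem_comapIdeal {C : Subring K} {V : ValuationSubring K} (h : C ≤ V.toSubring) (x : C) :
    x ∈ comapIdeal h ↔ (x : K) ∈ V.nonunits :=
  (V.coe_mem_nonunits_iff (a := (⟨x, h x.2⟩ : V))).symm

theorem comapIdeal_isPrime {C : Subring K} {V : ValuationSubring K} (h : C ≤ V.toSubring) :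
    (comapIdeal h).IsPrime :=
  Ideal.IsPrime.comap (hK := (IsLocalRing.maximalIdeal.isMaximal V).isPrime) _

theorem comapIdeal_ne_bot {C : Subring K} [IsFractionRing C K] {V : ValuationSubring K}
    (h : C ≤ V.toSubring) (hV : V ≠ ⊤) : comapIdeal h ≠ ⊥ := by
  intro hbot
  apply hV
  refine eq_top_iff.2 fun z _ => ?_
  obtain ⟨p, q, hq, rfl⟩ := IsFractionRing.div_surjective (A := C) z
  show (p : K) / (q : K) ∈ V
  have hq' : (q : K) ∉ V.nonunits := fun hmem => by
    have := (mem_comapIdeal h q).2 hmem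
    rw [hbot, Ideal.mem_bot] at this
    exact nonZeroDivisors.ne_zero hq this
  rw [ValuationSubring.mem_nonunits_iff_or] at hq'
  push Not at hq'
  rw [div_eq_mul_inv]
  exact V.mul_mem _ _ (h p.2) hq'.2

theorem comapIdeal_isMaximal {C : Subring K} [IsFractionRing C K] [Ring.KrullDimLE 1 C]
    {V : ValuationSubring K} (h : C ≤ V.toSubring) (hV : V ≠ ⊤) : (comapIdeal h).IsMaximal := by
  have := comapIdeal_isPrime h
  exact Ring.krullDimLE_one_iff_of_noZeroDivisors.1 ‹Ring.KrullDimLE 1 C› _
    (comapIdeal_ne_bot h hV) ‹_›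

/-- Every nonzero maximal ideal is dominated by a proper valuation ring. -/
theorem exists_valuationSubring_of_maximal {C : Subring K} (m : Ideal C) [hm : m.IsMaximal]
    (h0 : m ≠ ⊥) : ∃ V : ValuationSubring K, ∃ h : C ≤ V.toSubring, V ≠ ⊤ ∧ comapIdeal h = m := by
  obtain ⟨V, hV, hsub⟩ := Ideal.image_subset_nonunits_valuationSubring m hm.ne_top
  refine ⟨V, hV, fun hT => ?_, (hm.eq_of_le (comapIdeal_isPrime hV).ne_top fun x hx =>
    (mem_comapIdeal hV x).2 (hsub ⟨x, hx, rfl⟩)).symm⟩
  obtain ⟨x, hx, hx0⟩ := Submodule.exists_mem_ne_zero_of_ne_bot h0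
  have := (ValuationSubring.mem_nonunits_iff_or _).1 (hsub ⟨x, hx, rfl⟩)
  rcases this with h | h
  · exact hx0 (Subtype.ext h)
  · exact h (hT ▸ ValuationSubring.mem_top _)

theorem exists_valuationSubring_of_ne_top {C : Subring K} [IsFractionRing C K] (hC : C ≠ ⊤) :
    ∃ V : ValuationSubring K, C ≤ V.toSubring ∧ V ≠ ⊤ := by
  have hf : ¬ IsField C := fun h => hC ((isField_iff_eq_top C).1 h)
  obtain ⟨m, hm⟩ := Ideal.exists_maximal C
  have h0 : m ≠ ⊥ := fun h => hf (Ring.isField_iff_maximal_bot.2 (h ▸ hm))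
  obtain ⟨V, h, hV, -⟩ := exists_valuationSubring_of_maximal m h0
  exact ⟨V, h, hV⟩

/-- An element of a non-field subring which is a nonunit in every proper valuation ring over it is
in the Jacobson radical. -/
theorem mem_jacobson_of_forall_nonunits {C : Subring K} [IsFractionRing C K] (hC : C ≠ ⊤) {t : C}
    (ht : ∀ V : ValuationSubring K, C ≤ V.toSubring → V ≠ ⊤ → (t : K) ∈ V.nonunits) :
    t ∈ (⊥ : Ideal C).jacobson := by
  refine Submodule.mem_sInf.2 fun m hm => ?_
  have := hm.2
  have h0 : m ≠ ⊥ := fun h =>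
    hC ((isField_iff_eq_top C).1 (Ring.isField_iff_maximal_bot.2 (h ▸ hm.2)))
  obtain ⟨V, h, hV, rfl⟩ := exists_valuationSubring_of_maximal m h0
  exact (mem_comapIdeal h t).2 (ht V h hV)

theorem mem_nonunits_of_mem_jacobson {C : Subring K} [IsFractionRing C K] [Ring.KrullDimLE 1 C]
    {t : C} (ht : t ∈ (⊥ : Ideal C).jacobson) {V : ValuationSubring K} (h : C ≤ V.toSubring)
    (hV : V ≠ ⊤) : (t : K) ∈ V.nonunits :=
  (mem_comapIdeal h t).1 (Submodule.mem_sInf.1 ht _ ⟨bot_le, comapIdeal_isMaximal h hV⟩)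

/-- In a domain of dimension one, the Jacobson radical is in the radical of any nonzero principal
ideal. -/
theorem exists_dvd_pow_of_mem_jacobson {R : Type*} [CommRing R] [IsDomain R] [Ring.KrullDimLE 1 R]
    {t : R} (ht : t ∈ (⊥ : Ideal R).jacobson) {c : R} (hc : c ≠ 0) : ∃ n : ℕ, c ∣ t ^ n := by
  have h : t ∈ (Ideal.span {c}).radical := by
    rw [Ideal.radical_eq_sInf]
    refine Submodule.mem_sInf.2 fun P hP => ?_
    have hP0 : P ≠ ⊥ := fun h => hc (by
      have := hP.1 (Ideal.mem_span_singleton_self c)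
      rwa [h, Ideal.mem_bot] at this)
    exact Submodule.mem_sInf.1 ht P
      ⟨bot_le, Ring.krullDimLE_one_iff_of_noZeroDivisors.1 ‹_› P hP0 hP.2⟩
  obtain ⟨n, hn⟩ := Ideal.mem_radical_iff.1 h
  exact ⟨n, Ideal.mem_span_singleton.1 hn⟩

/-- If `t` is in the Jacobson radical of a one-dimensional ring then `t^n y` is in it for large `n`. -/
theorem exists_pow_mul_mem {B : Subring K} [IsFractionRing B K] [Ring.KrullDimLE 1 B] {t : B}
    (ht : t ∈ (⊥ : Ideal B).jacobson) (y : K) : ∃ N : ℕ, ∀ n, N ≤ n → (t : K) ^ n * y ∈ B := by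
  obtain ⟨p, q, hq, rfl⟩ := IsFractionRing.div_surjective (A := B) y
  have hq0 : q ≠ 0 := nonZeroDivisors.ne_zero hq
  obtain ⟨N, d, hd⟩ := exists_dvd_pow_of_mem_jacobson ht hq0
  refine ⟨N, fun n hn => ?_⟩
  obtain ⟨k, rfl⟩ := Nat.exists_eq_add_of_le hn
  have hd' : (t : K) ^ N = (q : K) * d := congrArg Subtype.val hd
  have hqK : (q : K) ≠ 0 := fun h => hq0 (Subtype.ext h)
  show (t : K) ^ (N + k) * ((p : K) / (q : K)) ∈ B
  have : (t : K) ^ (N + k) * ((p : K) / (q : K)) = ((d * t ^ k * p : B) : K) := by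
    rw [pow_add, hd']
    push_cast
    field_simp
  rw [this]
  exact SetLike.coe_mem _

/-- An element that is a nonunit of all proper valuation rings over `B` has a power which
multiplies any given integral element into `B`. -/
theorem exists_pow_mul_mem_of_isIntegral {B : Subring K} [IsFractionRing B K] [IsNoetherianRing B]
    [Ring.KrullDimLE 1 B] (hB : B ≠ ⊤) {t : K}
    (ht : ∀ V : ValuationSubring K, B ≤ V.toSubring → V ≠ ⊤ → t ∈ V.nonunits)
    {y : K} (hy : IsIntegral B y) : ∃ N : ℕ, ∀ n, N ≤ n → t ^ n * y ∈ B := by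
  have htint : IsIntegral B t := isIntegral_of_forall_mem fun V hV => by
    by_cases hT : V = ⊤
    · exact hT ▸ ValuationSubring.mem_top t
    · exact V.nonunits_subset (ht V hV hT)
  let C := Algebra.adjoin B ({t, y} : Set K)
  have hBC : B ≤ C.toSubring := fun x hx => C.algebraMap_mem ⟨x, hx⟩
  have hfg : (Subalgebra.toSubmodule C).FG := fg_adjoin_of_finite (Set.toFinite _) (by
    rintro x (rfl | rfl)
    exacts [htint, hy])
  classical
  obtain ⟨s, hs⟩ := hfg
  obtain ⟨⟨c, hc⟩, hc'⟩ := IsLocalization.exist_integer_multiples_of_finset (nonZeroDivisors B) s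
  have hcC : ∀ x ∈ C, (c : K) * x ∈ B := by
    intro x hx
    have hx' : x ∈ Submodule.span B (s : Set K) := hs ▸ (hx : x ∈ Subalgebra.toSubmodule C)
    clear hx
    induction hx' using Submodule.span_induction with
    | mem z hz =>
      obtain ⟨w, hw⟩ := hc' z hz
      have hw' : (c : K) * z = (w : K) := hw.symm
      rw [hw']
      exact w.2
    | zero => rw [mul_zero]; exact B.zero_mem
    | add a b _ _ ha hb => rw [mul_add]; exact B.add_mem ha hb
    | smul r z _ hz =>
      show (c : K) * ((r : K) * z) ∈ B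
      rw [mul_left_comm]
      exact B.mul_mem r.2 hz
  have hc0 : (c : K) ≠ 0 := fun h => nonZeroDivisors.ne_zero hc (Subtype.ext h)
  have hCne : C.toSubring ≠ ⊤ := fun h => hB <| eq_top_iff.2 fun z _ => by
    have := hcC ((c : K)⁻¹ * z) (show _ ∈ C.toSubring from h ▸ Subring.mem_top _)
    rwa [← mul_assoc, mul_inv_cancel₀ hc0, one_mul] at this
  have := isFractionRing_of_le hBC
  have := krullDimLE_one_of_le B hBC
  have htC : (⟨t, Algebra.subset_adjoin (by simp)⟩ : C.toSubring) ∈
      (⊥ : Ideal C.toSubring).jacobson :=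
    mem_jacobson_of_forall_nonunits hCne fun V hV hT => ht V (hBC.trans hV) hT
  obtain ⟨N, d, hd⟩ := exists_dvd_pow_of_mem_jacobson htC
    (c := (⟨(c : K), hBC c.2⟩ : C.toSubring)) fun h => hc0 (congrArg Subtype.val h)
  have hd' : t ^ N = (c : K) * d := congrArg Subtype.val hd
  refine ⟨N, fun n hn => ?_⟩
  obtain ⟨k, rfl⟩ := Nat.exists_eq_add_of_le hn
  rw [pow_add, hd', mul_assoc, mul_assoc]
  exact hcC _ (C.mul_mem d.2 (C.mul_mem (C.pow_mem (Algebra.subset_adjoin (by simp)) k)
    (Algebra.subset_adjoin (by simp))))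

section Finite

variable (A : Subring K) [IsFractionRing A K] [IsNoetherianRing A] [Ring.KrullDimLE 1 A]

instance isDedekindDomain_integralClosure : IsDedekindDomain (integralClosure A K) := by
  have : IsNoetherianRing (integralClosure A K) := isNoetherianRing_subalgebra _
  have : Ring.KrullDimLE 1 (integralClosure A K) := krullDimLE_one_subalgebra _
  have := isFractionRing_subalgebra (integralClosure A K)
  have : IsIntegrallyClosed (integralClosure A K) :=
    integralClosure.isIntegrallyClosedOfFiniteExtension K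
  exact { maximalOfPrime := fun h hp => Ring.krullDimLE_one_iff_of_noZeroDivisors.1 inferInstance _ h hp }

/-- Over a semi-local one-dimensional Noetherian subring there are only finitely many proper
valuation rings. -/
theorem finite_valuationSubrings [Finite (MaximalSpectrum A)] :
    {V : ValuationSubring K | A ≤ V.toSubring ∧ V ≠ ⊤}.Finite := by
  let C : Subring K := (integralClosure A K).toSubring
  have hAC : A ≤ C := fun x hx => (integralClosure A K).algebraMap_mem ⟨x, hx⟩
  have := isFractionRing_of_le hAC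
  have := krullDimLE_one_of_le A hAC
  have := finite_maximalSpectrum_of_le A hAC
  have hded : IsDedekindDomain C := isDedekindDomain_integralClosure A
  have hCV : ∀ V : {V : ValuationSubring K // A ≤ V.toSubring ∧ V ≠ ⊤}, C ≤ V.1.toSubring :=
    fun V x hx => mem_of_forall_le_isIntegral V.2.1 hx
  let g : {V : ValuationSubring K // A ≤ V.toSubring ∧ V ≠ ⊤} → MaximalSpectrum C :=
    fun V => ⟨comapIdeal (hCV V), comapIdeal_isMaximal (hCV V) V.2.2⟩
  refine Set.finite_coe_iff.1 (Finite.of_injective g ?_)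
  intro V W hVW
  have hP : comapIdeal (hCV V) = comapIdeal (hCV W) := congrArg MaximalSpectrum.asIdeal hVW
  have key : ∀ (U U' : {V : ValuationSubring K // A ≤ V.toSubring ∧ V ≠ ⊤}),
      comapIdeal (hCV U) = comapIdeal (hCV U') → U.1 ≤ U'.1 := by
    intro U U' hP x hx
    let P := comapIdeal (hCV U')
    have : P.IsPrime := comapIdeal_isPrime _
    have hP0 : P ≠ ⊥ := comapIdeal_ne_bot _ U'.2.2
    have hinv : ∀ (W : {V : ValuationSubring K // A ≤ V.toSubring ∧ V ≠ ⊤}) (q : C),
        q ∉ comapIdeal (hCV W) → (q : K)⁻¹ ∈ W.1 := fun W q hq => by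
      rw [mem_comapIdeal, ValuationSubring.mem_nonunits_iff_or] at hq
      push Not at hq
      exact hq.2
    let S := Localization.subalgebra.ofField K P.primeCompl P.primeCompl_le_nonZeroDivisors
    have : IsLocalization.AtPrime S P := inferInstance
    have : IsDiscreteValuationRing S :=
      IsLocalization.AtPrime.isDiscreteValuationRing_of_dedekind_domain C hP0 S
    have : IsFractionRing S K := inferInstance
    by_cases hx0 : x = 0
    · exact hx0 ▸ zero_mem _
    rcases ValuationRing.isInteger_or_isInteger S x with ⟨w, hw⟩ | ⟨w, hw⟩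
    · obtain ⟨p, q, hq, hwe⟩ := w.2
      rw [show x = (p : K) * (q : K)⁻¹ from hw.symm.trans hwe]
      exact U'.1.mul_mem _ _ (hCV U' p.2) (hinv U' q hq)
    · obtain ⟨p, q, hq, hwe⟩ := w.2
      have hxinv : x⁻¹ = (p : K) * (q : K)⁻¹ := hw.symm.trans hwe
      by_cases hp : p ∈ P
      · exfalso
        have hpU : (p : K) ∈ U.1.nonunits := (mem_comapIdeal (hCV U) p).1 (hP ▸ hp)
        have hqU : q ∉ comapIdeal (hCV U) := fun h => hq (hP ▸ h : q ∈ comapIdeal (hCV U'))
        have h1 : x⁻¹ ∈ U.1.nonunits := by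
          obtain ⟨h₁, h₂⟩ := ValuationSubring.mem_nonunits_iff_exists_mem_maximalIdeal.1 hpU
          rw [hxinv, mul_comm]
          exact ValuationSubring.mem_nonunits_iff_exists_mem_maximalIdeal.2
            ⟨U.1.mul_mem _ _ (hinv U q hqU) h₁, Ideal.mul_mem_left _ ⟨_, hinv U q hqU⟩ h₂⟩
        exact ((ValuationSubring.inv_mem_nonunits_iff _).1 h1).elim hx0 (fun h => h hx)
      · rw [show x = (q : K) * (p : K)⁻¹ by rw [← inv_inv x, hxinv, mul_inv, inv_inv, mul_comm]]
        exact U'.1.mul_mem _ _ (hCV U' q.2) (hinv U' p hp)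
  exact Subtype.ext (le_antisymm (key V W hP) (key W V hP.symm))

end Finite

end Groth.Agent.KrullAki
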