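import Mathlib.RingTheory.Length
import Mathlib.RingTheory.OrderOfVanishing.Noetherian
import Mathlib.RingTheory.Artinian.Ring
import Mathlib.RingTheory.Ideal.Quotient.Noetherian
import Mathlib.RingTheory.Localization.FractionRing
import Mathlib.RingTheory.Localization.Integer
import Mathlib.RingTheory.KrullDimension.NonZeroDivisors
import Mathlib.RingTheory.DedekindDomain.Basic
import Mathlib.RingTheory.Spectrum.Maximal.Basic

/-!
# The Krull–Akizuki theorem

For a one-dimensional Noetherian domain `A` with fraction field `K`, every subalgebra `B ⊆ K` is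
Noetherian of dimension at most one; if `A` is semi-local, so is `B`.
-/

namespace Groth.Agent.KrullAki

open Module Pointwise

variable {A : Type*} [CommRing A] [IsDomain A] [IsNoetherianRing A] [Ring.KrullDimLE 1 A]

omit [IsNoetherianRing A] in
theorem isMaximal_of_ne_bot {P : Ideal A} [P.IsPrime] (h : P ≠ ⊥) : P.IsMaximal :=
  Ring.krullDimLE_one_iff_of_noZeroDivisors.1 ‹Ring.KrullDimLE 1 A› P h ‹_›

/-- For an ideal `I ≠ 0` and `a ≠ 0`, `I / a I` has the length of `A / a A`. -/
theorem length_ideal_quotient {a : A} (ha : a ≠ 0) (I : Ideal A) (hI : I ≠ ⊥) :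
    length A (I ⧸ (a • (⊤ : Submodule A I))) = length A (A ⧸ Ideal.span {a}) := by
  obtain ⟨c, hcI, hc⟩ := Submodule.exists_mem_ne_zero_of_ne_bot hI
  have hq : length A (A ⧸ I) ≠ ⊤ := by
    have h1 : length A (A ⧸ Ideal.span {c}) ≠ ⊤ :=
      length_ne_top_iff.2 (isFiniteLength_quotient_span_singleton A (mem_nonZeroDivisors_of_ne_zero hc))
    have hle : Ideal.span {c} ≤ I := (Ideal.span_singleton_le_iff_mem I).2 hcI
    exact ne_top_of_le_ne_top h1
      (length_le_of_surjective (Submodule.factor hle) (Submodule.factor_surjective hle))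
  let J : Submodule A A := a • (I : Submodule A A)
  have memJ : ∀ x, x ∈ J ↔ ∃ y ∈ I, a * y = x := fun x => by
    simp only [J, Submodule.mem_smul_pointwise_iff_exists]; rfl
  have hJI : J ≤ I := fun x hx => by
    obtain ⟨y, hy, rfl⟩ := (memJ x).1 hx; exact I.mul_mem_left a hy
  have hJa : J ≤ (Ideal.span {a} : Ideal A) := fun x hx => by
    obtain ⟨y, _, rfl⟩ := (memJ x).1 hx
    exact Ideal.mem_span_singleton.2 (dvd_mul_right a y)
  have h₁ : (a • (⊤ : Submodule A I)) ≤ J.comap (Submodule.subtype I) := fun x hx => by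
    obtain ⟨y, _, rfl⟩ := (Submodule.mem_smul_pointwise_iff_exists _ _ _).1 hx
    exact (memJ _).2 ⟨y, y.2, rfl⟩
  have e1 : length A (A ⧸ J) = length A (I ⧸ (a • (⊤ : Submodule A I))) + length A (A ⧸ I) := by
    refine length_eq_add_of_exact (Submodule.mapQ _ _ (Submodule.subtype I) h₁)
      (Submodule.factor hJI) ?_ (Submodule.factor_surjective hJI) ?_
    · rw [← LinearMap.ker_eq_bot, eq_bot_iff]
      intro x hx
      obtain ⟨x, rfl⟩ := Submodule.Quotient.mk_surjective _ x
      rw [LinearMap.mem_ker, Submodule.mapQ_apply, Submodule.Quotient.mk_eq_zero] at hx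
      obtain ⟨y, hy, hxy⟩ := (memJ _).1 hx
      rw [Submodule.mem_bot, Submodule.Quotient.mk_eq_zero]
      exact (Submodule.mem_smul_pointwise_iff_exists _ _ _).2 ⟨⟨y, hy⟩, trivial, Subtype.ext hxy⟩
    · intro x
      obtain ⟨x, rfl⟩ := Submodule.Quotient.mk_surjective _ x
      constructor
      · intro hx
        have hx' : x ∈ I := (Submodule.Quotient.mk_eq_zero I).1 hx
        exact ⟨Submodule.Quotient.mk ⟨x, hx'⟩, rfl⟩
      · rintro ⟨y, hy⟩
        obtain ⟨y, rfl⟩ := Submodule.Quotient.mk_surjective _ y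
        rw [← hy]
        exact (Submodule.Quotient.mk_eq_zero I).2 y.2
  have h₂ : (I : Submodule A A) ≤ J.comap (LinearMap.lsmul A A a) := fun y hy =>
    (memJ _).2 ⟨y, hy, rfl⟩
  have e2 : length A (A ⧸ J) = length A (A ⧸ I) + length A (A ⧸ Ideal.span {a}) := by
    refine length_eq_add_of_exact (Submodule.mapQ I J (LinearMap.lsmul A A a) h₂)
      (Submodule.factor hJa) ?_ (Submodule.factor_surjective hJa) ?_
    · rw [← LinearMap.ker_eq_bot, eq_bot_iff]
      intro x hx
      obtain ⟨x, rfl⟩ := Submodule.Quotient.mk_surjective _ x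
      rw [LinearMap.mem_ker, Submodule.mapQ_apply, Submodule.Quotient.mk_eq_zero] at hx
      obtain ⟨y, hy, hxy⟩ := (memJ _).1 hx
      rw [Submodule.mem_bot, Submodule.Quotient.mk_eq_zero]
      obtain rfl : y = x := mul_left_cancel₀ ha hxy
      exact hy
    · intro x
      obtain ⟨x, rfl⟩ := Submodule.Quotient.mk_surjective _ x
      constructor
      · intro hx
        obtain ⟨y, rfl⟩ := Ideal.mem_span_singleton.1
          ((Submodule.Quotient.mk_eq_zero (Ideal.span {a})).1 hx)
        exact ⟨Submodule.Quotient.mk y, rfl⟩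
      · rintro ⟨y, hy⟩
        obtain ⟨y, rfl⟩ := Submodule.Quotient.mk_surjective _ y
        rw [← hy]
        exact (Submodule.Quotient.mk_eq_zero (Ideal.span {a})).2
          (Ideal.mem_span_singleton.2 (dvd_mul_right a y))
  rw [e1, add_comm (length A (A ⧸ I))] at e2
  exact WithTop.add_right_cancel hq e2

variable {K : Type*} [Field K] [Algebra A K] [IsFractionRing A K]
  {M : Type*} [AddCommGroup M] [Module A M]

/-- The bound for finitely generated submodules of `K`. -/
theorem length_quotient_le_of_fg {a : A} (ha : a ≠ 0) (N : Submodule A K) (hN : N.FG) :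
    length A (N ⧸ (a • (⊤ : Submodule A N))) ≤ length A (A ⧸ Ideal.span {a}) := by
  classical
  obtain ⟨s, hs⟩ := hN
  obtain ⟨⟨c, hc⟩, hc'⟩ := IsLocalization.exist_integer_multiples_of_finset (nonZeroDivisors A) s
  have hc0 : algebraMap A K c ≠ 0 := IsFractionRing.to_map_ne_zero_of_mem_nonZeroDivisors hc
  let I : Ideal A :=
    Submodule.comap (Algebra.linearMap A K) (N.map (LinearMap.lsmul A K c))
  have hNle : N.map (LinearMap.lsmul A K c) ≤ LinearMap.range (Algebra.linearMap A K) := by
    rw [← hs, Submodule.map_span, Submodule.span_le]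
    rintro _ ⟨x, hx, rfl⟩
    obtain ⟨y, hy⟩ := hc' x hx
    exact ⟨y, hy⟩
  by_cases hI : I = ⊥
  · have : N = ⊥ := by
      rw [eq_bot_iff]
      intro x hx
      obtain ⟨y, hy⟩ := hNle ⟨x, hx, rfl⟩
      have hyI : y ∈ I := show _ ∈ N.map _ from hy ▸ ⟨x, hx, rfl⟩
      rw [hI, Submodule.mem_bot] at hyI
      subst hyI
      rw [map_zero, LinearMap.lsmul_apply, Algebra.smul_def] at hy
      exact (mul_eq_zero.1 hy.symm).resolve_left hc0
    subst this
    rw [Module.length_eq_zero]
    exact zero_le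
  have hinj : Function.Injective (LinearMap.lsmul A K c) := fun x y h => by
    simp only [LinearMap.lsmul_apply, Algebra.smul_def] at h
    exact mul_left_cancel₀ hc0 h
  have hmap : Submodule.map (Algebra.linearMap A K) I = N.map (LinearMap.lsmul A K c) :=
    Submodule.map_comap_eq_of_le hNle
  let e : I ≃ₗ[A] N :=
    (Submodule.equivMapOfInjective (Algebra.linearMap A K) (IsFractionRing.injective A K) I).trans
      ((LinearEquiv.ofEq _ _ hmap).trans
        (Submodule.equivMapOfInjective (LinearMap.lsmul A K c) hinj N).symm)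
  have hle : (a • (⊤ : Submodule A I)) ≤ (a • (⊤ : Submodule A N)).comap e.toLinearMap := fun x hx => by
    obtain ⟨y, _, rfl⟩ := (Submodule.mem_smul_pointwise_iff_exists _ _ _).1 hx
    exact (Submodule.mem_smul_pointwise_iff_exists _ _ _).2
      ⟨e y, trivial, (map_smul e.toLinearMap a y).symm⟩
  refine le_trans ?_ (length_ideal_quotient ha I hI).le
  refine length_le_of_surjective (Submodule.mapQ _ _ e.toLinearMap hle) fun x => ?_
  obtain ⟨x, rfl⟩ := Submodule.Quotient.mk_surjective _ x
  exact ⟨Submodule.Quotient.mk (e.symm x), congrArg Submodule.Quotient.mk (e.apply_symm_apply x)⟩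

/-- **Krull–Akizuki**, the length bound: a module embedded in `K` modulo `a` has length at most
the length of `A / a A`. -/
theorem length_quotient_le {a : A} (ha : a ≠ 0) (f : M →ₗ[A] K) (hf : Function.Injective f) :
    length A (M ⧸ (a • (⊤ : Submodule A M))) ≤ length A (A ⧸ Ideal.span {a}) := by
  classical
  have hfin : length A (A ⧸ Ideal.span {a}) ≠ ⊤ :=
    length_ne_top_iff.2 (isFiniteLength_quotient_span_singleton A (mem_nonZeroDivisors_of_ne_zero ha))
  have hP : ∀ P : Submodule A (M ⧸ (a • (⊤ : Submodule A M))), P.FG →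
      length A P ≤ length A (A ⧸ Ideal.span {a}) := by
    rintro P ⟨s, rfl⟩
    let s' : Finset M := s.image (Function.surjInv (Submodule.Quotient.mk_surjective _))
    let N : Submodule A M := Submodule.span A s'
    have hN : N.map (a • (⊤ : Submodule A M)).mkQ = Submodule.span A s := by
      simp only [N, s', Submodule.map_span, Finset.coe_image, Set.image_image]
      congr 1
      simp [Function.surjInv_eq (Submodule.Quotient.mk_surjective _)]
    let g : N →ₗ[A] Submodule.span A (s : Set (M ⧸ (a • (⊤ : Submodule A M)))) :=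
      ((a • (⊤ : Submodule A M)).mkQ.comp N.subtype).codRestrict _ fun x => hN ▸ ⟨x, x.2, rfl⟩
    have hker : (a • (⊤ : Submodule A N)) ≤ LinearMap.ker g := fun x hx => by
      obtain ⟨y, _, rfl⟩ := (Submodule.mem_smul_pointwise_iff_exists _ _ _).1 hx
      rw [LinearMap.mem_ker]
      refine Subtype.ext ?_
      exact (Submodule.Quotient.mk_eq_zero _).2
        ((Submodule.mem_smul_pointwise_iff_exists _ _ _).2 ⟨y, trivial, rfl⟩)
    have hsurj : Function.Surjective (Submodule.liftQ _ g hker) := by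
      rintro ⟨x, hx⟩
      rw [← hN] at hx
      obtain ⟨y, hy, rfl⟩ := hx
      exact ⟨Submodule.Quotient.mk ⟨y, hy⟩, rfl⟩
    let e : N ≃ₗ[A] N.map f := Submodule.equivMapOfInjective f hf N
    have hle : (a • (⊤ : Submodule A (N.map f))) ≤
        (a • (⊤ : Submodule A N)).comap e.symm.toLinearMap := fun x hx => by
      obtain ⟨y, _, rfl⟩ := (Submodule.mem_smul_pointwise_iff_exists _ _ _).1 hx
      exact (Submodule.mem_smul_pointwise_iff_exists _ _ _).2
        ⟨e.symm y, trivial, (map_smul e.symm.toLinearMap a y).symm⟩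
    refine le_trans (length_le_of_surjective _ hsurj) (le_trans ?_
      (length_quotient_le_of_fg ha (N.map f) (Submodule.FG.map f ⟨s', rfl⟩)))
    refine length_le_of_surjective (Submodule.mapQ _ _ e.symm.toLinearMap hle) fun x => ?_
    obtain ⟨x, rfl⟩ := Submodule.Quotient.mk_surjective _ x
    exact ⟨Submodule.Quotient.mk (e x), congrArg Submodule.Quotient.mk (e.symm_apply_apply x)⟩
  -- a finitely generated submodule of largest length is everything
  let S : Set ℕ := {k | ∃ P : Submodule A (M ⧸ (a • (⊤ : Submodule A M))), P.FG ∧ length A P = k}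
  have hbdd : BddAbove S := ⟨(length A (A ⧸ Ideal.span {a})).toNat, by
    rintro k ⟨P, hPfg, hk⟩
    have := hP P hPfg
    rw [hk, ← ENat.natCast_toNat hfin] at this
    exact_mod_cast this⟩
  have hne : S.Nonempty := ⟨0, ⊥, Submodule.fg_bot, by simp⟩
  obtain ⟨P, hPfg, hPk⟩ := Nat.sSup_mem hne hbdd
  suffices P = ⊤ by
    subst this
    have := hP ⊤ hPfg
    rwa [Module.length_top] at this
  refine eq_top_iff.2 fun x _ => ?_
  let P' := P ⊔ Submodule.span A {x}
  have hP'fg : P'.FG := hPfg.sup (Submodule.fg_span_singleton x)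
  have hP'fin : length A P' ≠ ⊤ := ne_top_of_le_ne_top hfin (hP P' hP'fg)
  obtain ⟨_, _⟩ := isFiniteLength_iff_isNoetherian_isArtinian.1 (length_ne_top_iff.1 hP'fin)
  by_contra hx
  have hlt := Submodule.length_lt (M := P') (N := Submodule.comap P'.subtype P) fun h => hx <| by
    have hxP' : x ∈ P' := Submodule.mem_sup_right (Submodule.mem_span_singleton_self x)
    exact (Submodule.eq_top_iff'.1 h ⟨x, hxP'⟩ : _)
  rw [(Submodule.comapSubtypeEquivOfLe (p := P) (q := P') le_sup_left).length_eq, hPk,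
    ← ENat.natCast_toNat hP'fin, Nat.cast_lt] at hlt
  have hmem : (length A P').toNat ∈ S := ⟨P', hP'fg, (ENat.natCast_toNat hP'fin).symm⟩
  exact absurd (le_csSup hbdd hmem) (not_le.2 hlt)

variable (B : Subalgebra A K)

omit [IsNoetherianRing A] [Ring.KrullDimLE 1 A] in
/-- Every nonzero ideal of an intermediate ring meets `A` nontrivially. -/
theorem exists_algebraMap_mem (J : Ideal B) (hJ : J ≠ ⊥) :
    ∃ a : A, a ≠ 0 ∧ algebraMap A B a ∈ J := by
  obtain ⟨b, hb, hb0⟩ := Submodule.exists_mem_ne_zero_of_ne_bot hJ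
  obtain ⟨⟨p, q⟩, h⟩ := IsLocalization.surj (nonZeroDivisors A) (b : K)
  have hp : algebraMap A B p = b * algebraMap A B q := Subtype.ext h.symm
  refine ⟨p, fun hp0 => ?_, hp ▸ J.mul_mem_right _ hb⟩
  subst hp0
  rw [map_zero, mul_eq_zero] at h
  rcases h with h | h
  · exact hb0 (Subtype.ext h)
  · exact IsFractionRing.to_map_ne_zero_of_mem_nonZeroDivisors q.2 h

theorem isFiniteLength_quotient {a : A} (ha : a ≠ 0) :
    IsFiniteLength A (B ⧸ (a • (⊤ : Submodule A B))) :=
  length_ne_top_iff.1 (ne_top_of_le_ne_top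
    (length_ne_top_iff.2 (isFiniteLength_quotient_span_singleton A (mem_nonZeroDivisors_of_ne_zero ha)))
    (length_quotient_le ha B.val.toLinearMap Subtype.val_injective))

theorem isNoetherianRing_subalgebra : IsNoetherianRing B := by
  classical
  refine isNoetherianRing_iff.2 ⟨fun J => ?_⟩
  by_cases hJ : J = ⊥
  · subst hJ; exact Submodule.fg_bot
  obtain ⟨a, ha, haJ⟩ := exists_algebraMap_mem B J hJ
  obtain ⟨hN, -⟩ := isFiniteLength_iff_isNoetherian_isArtinian.1 (isFiniteLength_quotient B ha)
  obtain ⟨t, ht⟩ := IsNoetherian.noetherian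
    ((J.restrictScalars A).map (a • (⊤ : Submodule A B)).mkQ)
  have hts : (t : Set (B ⧸ (a • (⊤ : Submodule A B)))) ⊆
      (a • (⊤ : Submodule A B)).mkQ '' (J : Set B) := fun x hx => by
    have : x ∈ Submodule.span A (t : Set _) := Submodule.subset_span hx
    rw [ht] at this
    exact this
  obtain ⟨s, hsJ, hst⟩ := Finset.subset_set_image_iff.1 hts
  refine ⟨insert (algebraMap A B a) s, le_antisymm (Submodule.span_le.2 ?_) fun x hx => ?_⟩
  · rw [Finset.coe_insert]
    exact Set.insert_subset haJ hsJ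
  rw [Finset.coe_insert]
  set T := Submodule.span B (insert (algebraMap A B a) (s : Set B)) with hT
  have hx' : (a • (⊤ : Submodule A B)).mkQ x ∈ (T.restrictScalars A).map (a • (⊤ : Submodule A B)).mkQ := by
    have : (a • (⊤ : Submodule A B)).mkQ x ∈ Submodule.span A (t : Set _) :=
      ht ▸ ⟨x, hx, rfl⟩
    refine Submodule.span_le.2 ?_ this
    rw [← hst, Finset.coe_image]
    rintro _ ⟨y, hy, rfl⟩
    exact ⟨y, Submodule.subset_span (Set.mem_insert_of_mem _ hy), rfl⟩
  obtain ⟨y, hy, hyx⟩ := hx'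
  obtain ⟨z, -, hz⟩ := (Submodule.mem_smul_pointwise_iff_exists _ _ _).1
    ((Submodule.Quotient.eq _).1 hyx)
  have hzT : a • z ∈ T := by
    rw [Algebra.smul_def, mul_comm]
    exact T.smul_mem z (Submodule.subset_span (Set.mem_insert _ _))
  rw [hz] at hzT
  have := T.sub_mem hy hzT
  rwa [sub_sub_cancel] at this

theorem isArtinianRing_quotient {a : A} (ha : a ≠ 0) {J : Ideal B} (haJ : algebraMap A B a ∈ J) :
    IsArtinianRing (B ⧸ J) := by
  obtain ⟨-, hAr⟩ := isFiniteLength_iff_isNoetherian_isArtinian.1 (isFiniteLength_quotient B ha)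
  let g : B →ₗ[A] B ⧸ J := (Ideal.Quotient.mkₐ A J).toLinearMap
  have hle : (a • (⊤ : Submodule A B)) ≤ LinearMap.ker g := fun x hx => by
    obtain ⟨y, _, rfl⟩ := (Submodule.mem_smul_pointwise_iff_exists _ _ _).1 hx
    rw [LinearMap.mem_ker]
    exact Ideal.Quotient.eq_zero_iff_mem.2 (by rw [Algebra.smul_def]; exact J.mul_mem_right _ haJ)
  have : IsArtinian A (B ⧸ J) := isArtinian_of_surjective _ (Submodule.liftQ _ g hle) fun x => by
    obtain ⟨x, rfl⟩ := Ideal.Quotient.mk_surjective x
    exact ⟨Submodule.Quotient.mk x, rfl⟩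
  exact isArtinian_of_tower A this

theorem krullDimLE_one_subalgebra : Ring.KrullDimLE 1 B := by
  rw [Ring.krullDimLE_one_iff_of_noZeroDivisors]
  intro P hP hPp
  obtain ⟨a, ha, haP⟩ := exists_algebraMap_mem B P hP
  have := isArtinianRing_quotient B ha haP
  have := hPp
  exact Ideal.Quotient.maximal_of_isField _ (IsArtinianRing.isField_of_isDomain _)

theorem finite_maximalSpectrum_of_mem {a : A} (ha : a ≠ 0) :
    Finite {m : MaximalSpectrum B // algebraMap A B a ∈ m.asIdeal} := by
  have hle : ∀ m : {m : MaximalSpectrum B // algebraMap A B a ∈ m.asIdeal},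
      Ideal.span {algebraMap A B a} ≤ m.1.asIdeal :=
    fun m => (Ideal.span_singleton_le_iff_mem _).2 m.2
  have := isArtinianRing_quotient B ha (J := Ideal.span {algebraMap A B a})
    (Ideal.mem_span_singleton_self _)
  let g : B →+* B ⧸ Ideal.span {algebraMap A B a} := Ideal.Quotient.mk _
  have hcomap : ∀ m : {m : MaximalSpectrum B // algebraMap A B a ∈ m.asIdeal},
      (m.1.asIdeal.map g).comap g = m.1.asIdeal := fun m => by
    rw [Ideal.comap_map_of_surjective g Ideal.Quotient.mk_surjective,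
      sup_eq_left.2 (by rw [← RingHom.ker_eq_comap_bot, Ideal.mk_ker]; exact hle m)]
  refine Finite.of_injective (fun m => (⟨m.1.asIdeal.map g, ?_⟩ :
      MaximalSpectrum (B ⧸ Ideal.span {algebraMap A B a}))) ?_
  · have := m.1.isMaximal
    refine (Ideal.map_eq_top_or_isMaximal_of_surjective g Ideal.Quotient.mk_surjective
      m.1.isMaximal).resolve_left fun h => ?_
    apply m.1.isMaximal.ne_top
    rw [← hcomap m, h, Ideal.comap_top]
  · intro m m' h
    have h' : m.1.asIdeal.map g = m'.1.asIdeal.map g := congrArg MaximalSpectrum.asIdeal h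
    apply Subtype.ext
    ext1
    rw [← hcomap m, h', hcomap m']

omit [IsNoetherianRing A] [Ring.KrullDimLE 1 A] in
/-- In a semi-local domain some nonzero element lies in every nonzero maximal ideal. -/
theorem exists_ne_zero_mem_maximal [Finite (MaximalSpectrum A)] :
    ∃ a : A, a ≠ 0 ∧ ∀ m : Ideal A, m.IsMaximal → m ≠ ⊥ → a ∈ m := by
  classical
  have := Fintype.ofFinite (MaximalSpectrum A)
  have hch : ∀ m : MaximalSpectrum A, ∃ x : A, x ≠ 0 ∧ (m.asIdeal ≠ ⊥ → x ∈ m.asIdeal) := fun m => by
    by_cases h : m.asIdeal = ⊥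
    · exact ⟨1, one_ne_zero, fun h' => absurd h h'⟩
    · obtain ⟨x, hx, hx0⟩ := Submodule.exists_mem_ne_zero_of_ne_bot h
      exact ⟨x, hx0, fun _ => hx⟩
  choose x hx0 hx using hch
  refine ⟨∏ m, x m, Finset.prod_ne_zero_iff.2 fun m _ => hx0 m, fun m hm hm0 => ?_⟩
  exact Ideal.mem_of_dvd _ (Finset.dvd_prod_of_mem x (Finset.mem_univ ⟨m, hm⟩)) (hx ⟨m, hm⟩ hm0)

/-- An intermediate ring of a semi-local one-dimensional Noetherian domain is semi-local. -/
theorem finite_maximalSpectrum_subalgebra [Finite (MaximalSpectrum A)] :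
    Finite (MaximalSpectrum B) := by
  obtain ⟨a, ha, ha'⟩ := exists_ne_zero_mem_maximal (A := A)
  by_cases hB : IsField B
  · exact Finite.of_injective (fun _ => ()) fun m m' _ => by
      ext1
      exact ((Ring.isField_iff_maximal_bot.1 hB).eq_of_le m.isMaximal.ne_top bot_le).symm.trans
        ((Ring.isField_iff_maximal_bot.1 hB).eq_of_le m'.isMaximal.ne_top bot_le)
  have key : ∀ m : MaximalSpectrum B, algebraMap A B a ∈ m.asIdeal := fun m => by
    have hm : m.asIdeal ≠ ⊥ := fun h => hB (Ring.isField_iff_maximal_bot.2 (h ▸ m.isMaximal))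
    have := m.isMaximal.isPrime
    obtain ⟨c, hc, hcm⟩ := exists_algebraMap_mem B m.asIdeal hm
    have hne : m.asIdeal.comap (algebraMap A B) ≠ ⊥ := fun h => hc (by
      have : c ∈ m.asIdeal.comap (algebraMap A B) := hcm
      rwa [h, Ideal.mem_bot] at this)
    exact ha' _ (isMaximal_of_ne_bot hne) hne
  have := finite_maximalSpectrum_of_mem B ha
  let g : MaximalSpectrum B → {m : MaximalSpectrum B // algebraMap A B a ∈ m.asIdeal} :=
    fun m => ⟨m, key m⟩
  exact Finite.of_injective g fun m m' h => congrArg Subtype.val h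

omit [IsDomain A] [IsNoetherianRing A] [Ring.KrullDimLE 1 A] in
theorem isFractionRing_subalgebra : IsFractionRing B K := by
  refine IsFractionRing.of_field _ _ fun z => ?_
  obtain ⟨p, q, -, rfl⟩ := IsFractionRing.div_surjective (A := A) z
  exact ⟨algebraMap A B p, algebraMap A B q, rfl⟩

end Groth.Agent.KrullAki
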