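import Groth.Agent.KrullAki.Avoid
import Mathlib.AlgebraicGeometry.OpenImmersion
import Mathlib.AlgebraicGeometry.Scheme
import Mathlib.Algebra.Category.Ring.Constructions
import Mathlib.RingTheory.Spectrum.Prime.Topology

/-!
# Gluing semi-local subrings along their intersection
-/

namespace Groth.Agent.KrullAki

open CategoryTheory CategoryTheory.Limits AlgebraicGeometry

universe u

variable {K : Type u} [Field K]

theorem isLocalizationAway_inclusion {C A : Subring K} (h : C ≤ A) (t : C)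
    (ht : IsUnit (Subring.inclusion h t)) (hs : ∀ a ∈ A, ∃ n : ℕ, a * (t : K) ^ n ∈ C) :
    letI := (Subring.inclusion h).toAlgebra
    IsLocalization.Away t A := by
  letI := (Subring.inclusion h).toAlgebra
  refine { map_units := ?_, surj := ?_, exists_of_eq := ?_ }
  · rintro ⟨_, n, rfl⟩
    exact (map_pow (Subring.inclusion h) t n).symm ▸ ht.pow n
  · intro a
    obtain ⟨n, hn⟩ := hs a a.2
    refine ⟨(⟨_, hn⟩, ⟨t ^ n, n, rfl⟩), ?_⟩
    apply Subtype.ext
    rfl
  · intro x y hxy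
    have hxy' : x = y := Subtype.ext (congrArg (fun z : A => (z : K)) hxy)
    exact ⟨1, by rw [hxy']⟩

theorem isOpenImmersion_inclusion {C A : Subring K} (h : C ≤ A) (t : C)
    (ht : IsUnit (Subring.inclusion h t)) (hs : ∀ a ∈ A, ∃ n : ℕ, a * (t : K) ^ n ∈ C) :
    IsOpenImmersion (Spec.map (CommRingCat.ofHom (Subring.inclusion h))) ∧
      Set.range (Spec.map (CommRingCat.ofHom (Subring.inclusion h))).base =
        (PrimeSpectrum.basicOpen t : Set (PrimeSpectrum C)) := by
  letI := (Subring.inclusion h).toAlgebra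
  have := isLocalizationAway_inclusion h t ht hs
  exact ⟨IsOpenImmersion.of_isLocalization (S := A) t,
    PrimeSpectrum.localization_away_comap_range A t⟩

/-- The intersection of two semi-local one-dimensional subrings generating `K`: the data for
gluing. -/
theorem exists_separating {A B : Subring K} [Finite (MaximalSpectrum A)]
    [IsNoetherianRing B] [IsFractionRing B K] (hdim : ringKrullDim B = 1)
    (hsl : Finite (MaximalSpectrum B)) (hgen : A ⊔ B = ⊤) :
    ∃ t : ↥(A ⊓ B), IsUnit (Subring.inclusion (inf_le_left : A ⊓ B ≤ A) t) ∧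
      Subring.inclusion (inf_le_right : A ⊓ B ≤ B) t ∈ (⊥ : Ideal B).jacobson ∧ (t : K) ≠ 0 := by
  obtain ⟨x, hxA, hx0, hx⟩ := exists_inv_mem_jacobson A (fun _ : Unit => B)
    (fun _ => hdim) (fun _ => hsl) (fun _ => hgen)
  obtain ⟨u, hu, hu'⟩ := exists_isUnit_of_inv_mem_jacobson A (fun _ : Unit => B) hxA hx0 hx
  obtain ⟨hu0, huB, huJ⟩ := hu' ()
  have huA : (u : K)⁻¹ ∈ A := by
    obtain ⟨v, hv⟩ := hu.exists_right_inv
    rw [inv_eq_of_mul_eq_one_right (congrArg Subtype.val hv : (u : K) * (v : K) = 1)]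
    exact v.2
  refine ⟨⟨(u : K)⁻¹, huA, huB⟩, ?_, huJ, inv_ne_zero hu0⟩
  exact IsUnit.of_mul_eq_one u (Subtype.ext (inv_mul_cancel₀ hu0))

/-- Gluing two semi-local one-dimensional subrings. -/
theorem glue_two (A B : Subring K) [IsFractionRing A K] [IsFractionRing B K] [IsNoetherianRing A]
    [IsNoetherianRing B] (hdimA : ringKrullDim A = 1) (hdimB : ringKrullDim B = 1)
    (hslA : Finite (MaximalSpectrum A)) (hslB : Finite (MaximalSpectrum B)) (hgen : A ⊔ B = ⊤) :
    IsOpenImmersion (Spec.map (CommRingCat.ofHom (Subring.inclusion (inf_le_left : A ⊓ B ≤ A)))) ∧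
      IsOpenImmersion (Spec.map (CommRingCat.ofHom (Subring.inclusion (inf_le_right : A ⊓ B ≤ B)))) ∧
      Set.range (Spec.map (CommRingCat.ofHom (Subring.inclusion (inf_le_left : A ⊓ B ≤ A)))).base ∪
        Set.range (Spec.map (CommRingCat.ofHom (Subring.inclusion (inf_le_right : A ⊓ B ≤ B)))).base = Set.univ ∧
      IsPushout (CommRingCat.ofHom (Subring.inclusion (inf_le_left : A ⊓ B ≤ A)))
        (CommRingCat.ofHom (Subring.inclusion (inf_le_right : A ⊓ B ≤ B)))
        (CommRingCat.ofHom A.subtype) (CommRingCat.ofHom B.subtype) := by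
  classical
  have hA1 := krullDimLE_one_of_dim_eq_one hdimA
  have hB1 := krullDimLE_one_of_dim_eq_one hdimB
  obtain ⟨t, htA, htB, ht0⟩ := exists_separating hdimB hslB hgen
  obtain ⟨s₀, hs₀, hs₀', hs00⟩ := exists_separating (A := B) (B := A) hdimA hslA
    (by rw [sup_comm]; exact hgen)
  let s : ↥(A ⊓ B) := ⟨(s₀ : K), s₀.2.2, s₀.2.1⟩
  have hsB : IsUnit (Subring.inclusion (inf_le_right : A ⊓ B ≤ B) s) := hs₀
  have hsA : Subring.inclusion (inf_le_left : A ⊓ B ≤ A) s ∈ (⊥ : Ideal A).jacobson := hs₀'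
  have hlA : ∀ a ∈ A, ∃ n : ℕ, a * (t : K) ^ n ∈ A ⊓ B := fun a ha => by
    obtain ⟨N, hN⟩ := exists_pow_mul_mem htB a
    exact ⟨N, A.mul_mem ha (A.pow_mem t.2.1 N), mul_comm a _ ▸ hN N le_rfl⟩
  have hlB : ∀ a ∈ B, ∃ n : ℕ, a * (s : K) ^ n ∈ A ⊓ B := fun a ha => by
    obtain ⟨N, hN⟩ := exists_pow_mul_mem hsA a
    exact ⟨N, mul_comm a _ ▸ hN N le_rfl, B.mul_mem ha (B.pow_mem s.2.2 N)⟩
  obtain ⟨hoA, hrA⟩ := isOpenImmersion_inclusion inf_le_left t htA hlA
  obtain ⟨hoB, hrB⟩ := isOpenImmersion_inclusion inf_le_right s hsB hlB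
  refine ⟨hoA, hoB, ?_, ?_⟩
  · rw [hrA, hrB]
    refine Set.eq_univ_of_forall fun p => ?_
    by_contra hp
    have hp : t ∈ p.asIdeal ∧ s ∈ p.asIdeal := by
      refine ⟨?_, ?_⟩ <;> by_contra hmem
      · exact hp (Or.inl hmem)
      · exact hp (Or.inr hmem)
    have hunit : ∀ {R : Type u} [CommRing R] {a b : R}, IsUnit a → b ∈ (⊥ : Ideal R).jacobson →
        IsUnit (a + b) := by
      intro R _ a b ha hb
      obtain ⟨a, rfl⟩ := ha
      have := Ideal.mem_jacobson_bot.1 hb (↑a⁻¹ : R)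
      rw [show (a : R) + b = a * (b * ↑a⁻¹ + 1) by
        rw [mul_add, ← mul_assoc, mul_comm (a : R) b, mul_assoc, Units.mul_inv, mul_one, mul_one,
          add_comm]]
      exact a.isUnit.mul this
    have h1 : IsUnit (Subring.inclusion (inf_le_left : A ⊓ B ≤ A) (t + s)) := by
      rw [map_add]; exact hunit htA hsA
    have h2 : IsUnit (Subring.inclusion (inf_le_right : A ⊓ B ≤ B) (t + s)) := by
      rw [map_add, add_comm]; exact hunit hsB htB
    obtain ⟨v, hv⟩ := h1.exists_right_inv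
    obtain ⟨w, hw⟩ := h2.exists_right_inv
    have hv' : ((t + s : ↥(A ⊓ B)) : K) * (v : K) = 1 := congrArg Subtype.val hv
    have hw' : ((t + s : ↥(A ⊓ B)) : K) * (w : K) = 1 := congrArg Subtype.val hw
    have hvw : (v : K) = w :=
      mul_left_cancel₀ (left_ne_zero_of_mul_eq_one hv') (hv'.trans hw'.symm)
    have hts : IsUnit (t + s) :=
      IsUnit.of_mul_eq_one ⟨(v : K), v.2, hvw ▸ w.2⟩ (Subtype.ext hv')
    exact p.2.ne_top (Ideal.eq_top_of_isUnit_mem _ (p.asIdeal.add_mem hp.1 hp.2) hts)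
  · letI := (Subring.inclusion (inf_le_left : A ⊓ B ≤ A)).toAlgebra
    have := isLocalizationAway_inclusion (inf_le_left : A ⊓ B ≤ A) t htA hlA
    letI : Algebra B K := B.subtype.toAlgebra
    have : IsLocalization ((Submonoid.powers t).map (Subring.inclusion (inf_le_right : A ⊓ B ≤ B))) K := by
      rw [Submonoid.map_powers]
      refine { map_units := ?_, surj := ?_, exists_of_eq := ?_ }
      · rintro ⟨_, n, rfl⟩
        exact (Ne.isUnit (a := (t : K)) ht0).pow n
      · intro z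
        obtain ⟨N, hN⟩ := exists_pow_mul_mem htB z
        exact ⟨(⟨_, hN N le_rfl⟩, ⟨_, N, rfl⟩), mul_comm _ _⟩
      · intro x y hxy
        exact ⟨1, by rw [Subtype.ext (hxy : (x : K) = y)]⟩
    exact (CommRingCat.isPushout_of_isLocalization
      (Subring.inclusion (inf_le_right : A ⊓ B ≤ B)) A.subtype rfl (Submonoid.powers t)).flip

end Groth.Agent.KrullAki
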