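import Groth.Agent.KrullAki.Valuation
import Mathlib.RingTheory.Jacobson.Ideal
import Mathlib.Data.Finset.Max
import Mathlib.Tactic.Ring

/-!
# Avoiding finitely many valuation rings; units with large poles
-/

namespace Groth.Agent.KrullAki

variable {K : Type*} [Field K]

theorem exists_forall_notMem (A : Subring K) (F : Set (ValuationSubring K)) (hF : F.Finite)
    (hd : ∀ V ∈ F, V ≠ ⊤ ∧ IsDiscreteValuationRing V) (h : ∀ V ∈ F, ∃ y ∈ A, y ∉ V) :
    ∃ x ∈ A, x ≠ 0 ∧ ∀ V ∈ F, x ∉ V := by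
  classical
  induction F, hF using Set.Finite.induction_on with
  | empty => exact ⟨1, A.one_mem, one_ne_zero, by simp⟩
  | @insert V F _ hFfin ih =>
    obtain ⟨x, hxA, hx0, hx⟩ := ih (fun W hW => hd W (Set.mem_insert_of_mem _ hW))
      (fun W hW => h W (Set.mem_insert_of_mem _ hW))
    by_cases hxV : x ∈ V
    swap
    · exact ⟨x, hxA, hx0, by rintro W (rfl | hW); exacts [hxV, hx W hW]⟩
    obtain ⟨y, hyA, hyV⟩ := h V (Set.mem_insert _ _)
    have key : ∀ W ∈ F, ∃ N : ℕ, ∀ e, N ≤ e → x ^ e + y ∉ W := by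
      intro W hW
      obtain ⟨hWT, hWd⟩ := hd W (Set.mem_insert_of_mem _ hW)
      have : IsPrincipalIdealRing W.toSubring := inferInstanceAs (IsPrincipalIdealRing W)
      have : IsDedekindDomain W.toSubring := inferInstance
      have : Ring.KrullDimLE 1 W.toSubring :=
        Ring.krullDimLE_one_iff_of_noZeroDivisors.2 fun P hP hPp => hPp.isMaximal hP
      have : IsFractionRing W.toSubring K := inferInstanceAs (IsFractionRing W K)
      have hxW := hx W hW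
      have hxinv : x⁻¹ ∈ W := (W.mem_or_inv_mem x).resolve_left hxW
      have hJ : (⟨x⁻¹, hxinv⟩ : W.toSubring) ∈ (⊥ : Ideal W.toSubring).jacobson := by
        have : IsLocalRing W.toSubring := inferInstanceAs (IsLocalRing W)
        rw [IsLocalRing.jacobson_eq_maximalIdeal _ bot_ne_top]
        obtain ⟨h₁, h₂⟩ := ValuationSubring.mem_nonunits_iff_exists_mem_maximalIdeal.1
          ((ValuationSubring.inv_mem_nonunits_iff W).2 (Or.inr hxW))
        exact h₂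
      obtain ⟨N, hN⟩ := exists_pow_mul_mem hJ y
      refine ⟨N + 1, fun e he hmem => hxW ?_⟩
      obtain ⟨k, rfl⟩ := Nat.exists_eq_add_of_le he
      -- `x = x^(e) (x⁻¹)^(e-1)` and `x^e + y ∈ W` would put `x` in `W`
      have h1 : x⁻¹ ^ (N + k) * (x ^ (N + 1 + k) + y) ∈ W := W.mul_mem _ _ (pow_mem hxinv _) hmem
      have h2 : x⁻¹ ^ (N + k) * y ∈ W := hN _ (Nat.le_add_right _ _)
      have h3 : x = x⁻¹ ^ (N + k) * (x ^ (N + 1 + k) + y) - x⁻¹ ^ (N + k) * y := by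
        rw [mul_add, add_sub_cancel_right, show N + 1 + k = (N + k) + 1 by ring, pow_succ, ← mul_assoc,
          ← mul_pow, inv_mul_cancel₀ hx0, one_pow, one_mul]
      rw [h3]
      exact sub_mem h1 h2
    choose! N hN using key
    obtain ⟨e, he⟩ := (hFfin.image N).bddAbove
    have hV : x ^ e + y ∉ V := fun hz => hyV (by simpa using sub_mem hz (pow_mem hxV e))
    refine ⟨x ^ e + y, A.add_mem (A.pow_mem hxA e) hyA, fun h0 => hV (h0 ▸ zero_mem _), ?_⟩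
    rintro W (rfl | hW)
    exacts [hV, hN W hW e (he ⟨W, hW, rfl⟩)]

/-- The key avoidance statement: an element of `A` with large poles over every `B i`. -/
theorem exists_inv_mem_jacobson (A : Subring K) {ι : Type*} [Finite ι] (B : ι → Subring K)
    [∀ i, IsNoetherianRing (B i)] [∀ i, IsFractionRing (B i) K]
    (hdim : ∀ i, ringKrullDim (B i) = 1) (hsl : ∀ i, Finite (MaximalSpectrum (B i)))
    (hgen : ∀ i, A ⊔ B i = ⊤) :
    ∃ x : K, x ∈ A ∧ x ≠ 0 ∧ ∀ i, ∃ hx : x⁻¹ ∈ B i,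
      (⟨x⁻¹, hx⟩ : B i) ∈ (⊥ : Ideal (B i)).jacobson := by
  classical
  have hd1 : ∀ i, Ring.KrullDimLE 1 (B i) := fun i => krullDimLE_one_of_dim_eq_one (hdim i)
  let F : Set (ValuationSubring K) := ⋃ i, {V | B i ≤ V.toSubring ∧ V ≠ ⊤}
  obtain ⟨x, hxA, hx0, hx⟩ := exists_forall_notMem A F
    (Set.finite_iUnion fun i => by have := hsl i; exact finite_valuationSubrings (B i))
    (fun V hV => by
      obtain ⟨i, h, hT⟩ := Set.mem_iUnion.1 hV
      exact ⟨hT, isDiscreteValuationRing_of_le (B i) h hT⟩)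
    (fun V hV => by
      obtain ⟨i, h, hT⟩ := Set.mem_iUnion.1 hV
      by_contra! hA
      apply hT
      refine ValuationSubring.toSubring_injective (top_unique ((hgen i).symm.le.trans (sup_le hA h)))
      )
  have key : ∀ i, ∃ N : ℕ, ∀ n, N ≤ n → ∃ h : x⁻¹ ^ n ∈ B i,
      (n ≠ 0 → (⟨x⁻¹ ^ n, h⟩ : B i) ∈ (⊥ : Ideal (B i)).jacobson) := by
    intro i
    have ht : ∀ V : ValuationSubring K, B i ≤ V.toSubring → V ≠ ⊤ → x⁻¹ ∈ V.nonunits :=
      fun V h hT => (ValuationSubring.inv_mem_nonunits_iff V).2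
        (Or.inr (hx V (Set.mem_iUnion.2 ⟨i, h, hT⟩)))
    have hB := ne_top_of_dim_eq_one (B i) (hdim i)
    obtain ⟨N, hN⟩ := exists_pow_mul_mem_of_isIntegral hB ht (isIntegral_one (R := B i) (B := K))
    refine ⟨N, fun n hn => ⟨by simpa using hN n hn, fun hn0 => ?_⟩⟩
    refine mem_jacobson_of_forall_nonunits hB fun V h hT => ?_
    obtain ⟨h₁, h₂⟩ := ValuationSubring.mem_nonunits_iff_exists_mem_maximalIdeal.1 (ht V h hT)
    exact ValuationSubring.mem_nonunits_iff_exists_mem_maximalIdeal.2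
      ⟨pow_mem h₁ n, Ideal.pow_mem_of_mem (IsLocalRing.maximalIdeal V) h₂ n (Nat.pos_of_ne_zero hn0)⟩
  choose N hN using key
  obtain ⟨M, hM⟩ := (Set.finite_range N).bddAbove
  refine ⟨x ^ (M + 1), A.pow_mem hxA _, pow_ne_zero _ hx0, fun i => ?_⟩
  obtain ⟨h, hJ⟩ := hN i (M + 1) ((hM ⟨i, rfl⟩).trans (Nat.le_succ M))
  exact ⟨inv_pow x _ ▸ h, by simpa only [inv_pow] using hJ (Nat.succ_ne_zero M)⟩

theorem inv_mul_mem_jacobson {B : Subring K} {z w : K} (hz : z ≠ 0) (hw : w ≠ 0) (hwB : w⁻¹ ∈ B)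
    (hzJ : ∃ h : z⁻¹ ∈ B, (⟨z⁻¹, h⟩ : B) ∈ (⊥ : Ideal B).jacobson) :
    z * w ≠ 0 ∧ ∃ h : (z * w)⁻¹ ∈ B, (⟨(z * w)⁻¹, h⟩ : B) ∈ (⊥ : Ideal B).jacobson := by
  obtain ⟨h, hJ⟩ := hzJ
  refine ⟨mul_ne_zero hz hw, mul_inv z w ▸ B.mul_mem h hwB, ?_⟩
  convert Ideal.mul_mem_right ⟨w⁻¹, hwB⟩ _ hJ using 1
  exact Subtype.ext (mul_inv z w)

theorem inv_one_add_mem_jacobson {B : Subring K} {z : K} (hz : z ≠ 0)
    (hzJ : ∃ h : z⁻¹ ∈ B, (⟨z⁻¹, h⟩ : B) ∈ (⊥ : Ideal B).jacobson) :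
    1 + z ≠ 0 ∧ ∃ h : (1 + z)⁻¹ ∈ B, (⟨(1 + z)⁻¹, h⟩ : B) ∈ (⊥ : Ideal B).jacobson := by
  obtain ⟨h, hJ⟩ := hzJ
  obtain ⟨v, hv⟩ := (Ideal.mem_jacobson_bot.1 hJ 1).exists_right_inv
  have hv' : (z⁻¹ * 1 + 1) * (v : K) = 1 := congrArg Subtype.val hv
  have hne : (1 : K) + z ≠ 0 := fun h0 => by
    rw [show z⁻¹ * 1 + 1 = z⁻¹ * (1 + z) by rw [mul_add, inv_mul_cancel₀ hz], h0, mul_zero,
      zero_mul] at hv'
    exact zero_ne_one hv'
  have heq : (1 + z)⁻¹ = z⁻¹ * v :=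
    inv_eq_of_mul_eq_one_right (by
      rw [← mul_assoc, add_mul, one_mul, mul_inv_cancel₀ hz]
      rwa [mul_one] at hv')
  refine ⟨hne, heq ▸ B.mul_mem h v.2, ?_⟩
  convert Ideal.mul_mem_right v _ hJ using 1
  exact Subtype.ext heq

/-- A semi-local subring with an element having poles in the Jacobson radicals has a unit with the
same property. -/
theorem exists_isUnit_of_inv_mem_jacobson (A : Subring K) [Finite (MaximalSpectrum A)]
    {ι : Type*} (B : ι → Subring K) {x : K} (hxA : x ∈ A) (hx0 : x ≠ 0)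
    (hx : ∀ i, ∃ h : x⁻¹ ∈ B i, (⟨x⁻¹, h⟩ : B i) ∈ (⊥ : Ideal (B i)).jacobson) :
    ∃ u : A, IsUnit u ∧ ∀ i, (u : K) ≠ 0 ∧ ∃ h : (u : K)⁻¹ ∈ B i,
      (⟨(u : K)⁻¹, h⟩ : B i) ∈ (⊥ : Ideal (B i)).jacobson := by
  classical
  let P : ℕ → A := fun k => Nat.rec 1 (fun _ p => p * (1 + ⟨x, hxA⟩ * p)) k
  let u : ℕ → A := fun k => 1 + ⟨x, hxA⟩ * P k
  have hP : ∀ k i, ((A.subtype (P k)) ≠ 0 ∧ (A.subtype (P k))⁻¹ ∈ B i) ∧ ((A.subtype (u k)) ≠ 0 ∧
      ∃ h : (A.subtype (u k))⁻¹ ∈ B i, (⟨(A.subtype (u k))⁻¹, h⟩ : B i) ∈ (⊥ : Ideal (B i)).jacobson) := by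
    intro k i
    have step : ∀ p : A, ((p : K) ≠ 0 ∧ (p : K)⁻¹ ∈ B i) →
        ((1 + ⟨x, hxA⟩ * p : A) : K) ≠ 0 ∧ ∃ h : ((1 + ⟨x, hxA⟩ * p : A) : K)⁻¹ ∈ B i,
          (⟨((1 + ⟨x, hxA⟩ * p : A) : K)⁻¹, h⟩ : B i) ∈ (⊥ : Ideal (B i)).jacobson := by
      rintro p ⟨hp0, hp⟩
      obtain ⟨h1, h2⟩ := inv_mul_mem_jacobson hx0 hp0 hp (hx i)
      exact inv_one_add_mem_jacobson h1 h2
    have hPk : (A.subtype (P k)) ≠ 0 ∧ (A.subtype (P k))⁻¹ ∈ B i := by
      induction k with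
      | zero => exact ⟨one_ne_zero, by simpa [P] using (B i).one_mem⟩
      | succ k ih =>
        obtain ⟨hu0, hu, -⟩ := step _ ih
        refine ⟨mul_ne_zero ih.1 hu0, ?_⟩
        show ((A.subtype (P k)) * ((1 + ⟨x, hxA⟩ * P k : A) : K))⁻¹ ∈ B i
        rw [mul_inv]
        exact (B i).mul_mem ih.2 hu
    exact ⟨hPk, step _ hPk⟩
  suffices ∃ k, IsUnit (u k) by
    obtain ⟨k, hk⟩ := this
    exact ⟨u k, hk, fun i => (hP k i).2⟩
  by_contra! hnu
  have hdvd : ∀ i j, i < j → u i ∣ P j := by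
    intro i j hij
    induction j with
    | zero => omega
    | succ j ih =>
      rcases Nat.lt_succ_iff_lt_or_eq.1 hij with h | h
      · exact (ih h).mul_right _
      · subst h; exact dvd_mul_left _ _
  choose m hm hmem using fun k => exists_max_ideal_of_mem_nonunits (hnu k)
  refine not_injective_infinite_finite (fun k => (⟨m k, hm k⟩ : MaximalSpectrum A)) ?_
  intro i j hij
  have hij' : m i = m j := congrArg MaximalSpectrum.asIdeal hij
  by_contra hne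
  wlog h : i < j generalizing i j
  · exact this hij.symm hij'.symm (Ne.symm hne) (lt_of_le_of_ne (not_lt.1 h) (Ne.symm hne))
  have h1 : P j ∈ m j := hij' ▸ Ideal.mem_of_dvd _ (hdvd i j h) (hmem i)
  exact (hm j).ne_top ((Ideal.eq_top_iff_one _).2
    (by simpa [u] using (m j).sub_mem (hmem j) ((m j).mul_mem_left ⟨x, hxA⟩ h1)))

end Groth.Agent.KrullAki
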